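import Mathlib

/-!
Cutting out a smooth lift with an idempotent matrix.
-/

universe u

namespace Groth.Agent.SmLift

noncomputable section

open Matrix

variable {A S : Type u} [CommRing A] [CommRing S] [Algebra A S] {I : Ideal A} {K : Ideal S} {m : ℕ}
  (f : Fin m → S)

variable (I K) in
/-- The ideal of the first order neighbourhood in the reduction. -/
abbrev nb : Ideal S := K ^ 2 ⊔ I.map (algebraMap A S)

variable (I K) in
/-- Combinations of the generators in the first order neighbourhood. -/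
def θ : (Fin m → S) →ₗ[S] S ⧸ nb I K :=
  (Submodule.mkQ (nb I K)).comp (Fintype.linearCombination S f)

theorem θ_apply (c : Fin m → S) : θ I K f c = Ideal.Quotient.mk (nb I K) (∑ j, c j * f j) := by
  simp [θ, Fintype.linearCombination_apply, smul_eq_mul]

/-- A derivation lifting the defect of a section. -/
theorem exists_derivation [Algebra.FormallySmooth A S]
    (hK : K = Ideal.span (Set.range f) ⊔ I.map (algebraMap A S))
    (σ : S →ₐ[A] S ⧸ nb I K)
    (hσ : ∀ x, Ideal.Quotient.mk (nb I K) x - σ x ∈ K.map (Ideal.Quotient.mk (nb I K))) :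
    ∃ D : Derivation A S (Fin m → S), ∀ x, θ I K f (D x) = Ideal.Quotient.mk (nb I K) x - σ x := by
  let δ : S → S ⧸ nb I K := fun x => Ideal.Quotient.mk (nb I K) x - σ x
  have hsq : ∀ x y, δ x * δ y = 0 := by
    intro x y
    have h := Ideal.mul_mem_mul (hσ x) (hσ y)
    rw [← Ideal.map_mul, ← pow_two, (Ideal.map_eq_bot_iff_le_ker _).2 (le_sup_left.trans Ideal.mk_ker.ge),
      Ideal.mem_bot] at h
    exact h
  have hmem : ∀ x, δ x ∈ LinearMap.range (θ I K f) := by
    intro x
    have h := hσ x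
    rw [Ideal.mem_map_iff_of_surjective _ Ideal.Quotient.mk_surjective] at h
    obtain ⟨k, hk, hkx⟩ := h
    rw [hK] at hk
    obtain ⟨a, ha, b, hb, rfl⟩ := Submodule.mem_sup.1 hk
    obtain ⟨c, hc⟩ := (Ideal.mem_span_range_iff_exists_fun).1 ha
    refine ⟨c, ?_⟩
    rw [θ_apply, hc]
    show _ = δ x
    rw [show δ x = Ideal.Quotient.mk (nb I K) (a + b) from hkx.symm, map_add,
      (Ideal.Quotient.eq_zero_iff_mem (a := b)).2 (Ideal.mem_sup_right hb), add_zero]
  have hsmul : ∀ (s : S) (q : S ⧸ nb I K), s • q = Ideal.Quotient.mk (nb I K) s * q := fun s q => by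
    rw [Algebra.smul_def]; rfl
  let δl : S →ₗ[A] LinearMap.range (θ I K f) :=
    { toFun := fun x => ⟨δ x, hmem x⟩
      map_add' := fun x y => Subtype.ext (by
        show δ (x + y) = δ x + δ y
        simp only [δ, map_add]; ring)
      map_smul' := fun a x => Subtype.ext (by
        show δ (a • x) = a • δ x
        simp only [δ, smul_sub]
        rw [map_smul σ, ← Ideal.Quotient.mkₐ_eq_mk A, map_smul (Ideal.Quotient.mkₐ A (nb I K))]) }
  let δd : Derivation A S (LinearMap.range (θ I K f)) :=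
    { toLinearMap := δl
      map_one_eq_zero' := Subtype.ext (by show δ 1 = 0; simp [δ])
      leibniz' := fun x y => Subtype.ext (by
        show δ (x * y) = x • δ y + y • δ x
        rw [hsmul, hsmul]
        simp only [δ, map_mul] at hsq ⊢
        linear_combination -(hsq x y)) }
  haveI : Module.Projective S Ω[S⁄A] := inferInstance
  obtain ⟨L, hL⟩ := Module.projective_lifting_property (θ I K f).rangeRestrict
    δd.liftKaehlerDifferential (LinearMap.surjective_rangeRestrict _)
  refine ⟨L.compDer (KaehlerDifferential.D A S), fun x => ?_⟩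
  have h := congrArg Subtype.val (LinearMap.congr_fun hL (KaehlerDifferential.D A S x))
  rw [LinearMap.comp_apply, Derivation.liftKaehlerDifferential_comp_D] at h
  exact h

variable {f}

theorem derivation_nb_mem (hIK : I.map (algebraMap A S) ≤ K) (D : Derivation A S (Fin m → S))
    {x : S} (hx : x ∈ nb I K) (i : Fin m) : D x i ∈ K := by
  obtain ⟨u, hu, v, hv, rfl⟩ := Submodule.mem_sup.1 hx
  rw [map_add, Pi.add_apply]
  clear hx
  refine add_mem ?_ ?_
  · rw [pow_two] at hu
    induction hu using Submodule.mul_induction_on' with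
    | mem_mul_mem a ha b hb =>
      rw [D.leibniz, Pi.add_apply, Pi.smul_apply, Pi.smul_apply, smul_eq_mul, smul_eq_mul]
      exact add_mem (K.mul_mem_right _ ha) (K.mul_mem_right _ hb)
    | add a _ b _ h1 h2 => rw [map_add, Pi.add_apply]; exact add_mem h1 h2
  · induction hv using Submodule.span_induction with
    | mem y hy =>
      obtain ⟨a, -, rfl⟩ := hy
      rw [D.map_algebraMap]; exact zero_mem K
    | zero => rw [map_zero]; exact zero_mem K
    | add y z _ _ h1 h2 => rw [map_add, Pi.add_apply]; exact add_mem h1 h2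
    | smul c y hy h1 =>
      rw [smul_eq_mul, D.leibniz, Pi.add_apply, Pi.smul_apply, Pi.smul_apply, smul_eq_mul, smul_eq_mul]
      exact add_mem (K.mul_mem_left _ h1) (K.mul_mem_right _ (hIK hy))

/-- The defect derivation gives an idempotent matrix modulo `K`. -/
theorem exists_matrix [Algebra.FormallySmooth A S]
    (hK : K = Ideal.span (Set.range f) ⊔ I.map (algebraMap A S))
    (σ : S →ₐ[A] S ⧸ nb I K) (hσK : ∀ x ∈ K, σ x = 0)
    (hσ : ∀ x, Ideal.Quotient.mk (nb I K) x - σ x ∈ K.map (Ideal.Quotient.mk (nb I K))) :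
    ∃ E : Matrix (Fin m) (Fin m) S,
      (∀ j, θ I K f (fun i => E i j) = Ideal.Quotient.mk (nb I K) (f j)) ∧
      (∀ c, θ I K f c = 0 → ∀ i, (E *ᵥ c) i ∈ K) ∧ ∀ i j, (E * E - E) i j ∈ K := by
  obtain ⟨D, hD⟩ := exists_derivation f hK σ hσ
  have hfK : ∀ j, f j ∈ K := fun j => hK ▸ Ideal.mem_sup_left (Ideal.subset_span ⟨j, rfl⟩)
  have hIK : I.map (algebraMap A S) ≤ K := hK ▸ le_sup_right
  let E : Matrix (Fin m) (Fin m) S := Matrix.of fun i j => D (f j) i
  have h1 : ∀ j, θ I K f (fun i => E i j) = Ideal.Quotient.mk (nb I K) (f j) := fun j => by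
    show θ I K f (D (f j)) = _
    rw [hD, hσK _ (hfK j), sub_zero]
  have h2 : ∀ c, θ I K f c = 0 → ∀ i, (E *ᵥ c) i ∈ K := by
    intro c hc i
    rw [θ_apply, Ideal.Quotient.eq_zero_iff_mem] at hc
    have := derivation_nb_mem hIK D hc i
    rw [map_sum, Finset.sum_apply] at this
    have h' : (E *ᵥ c) i = (∑ j, D (c j * f j) i) - ∑ j, f j * D (c j) i := by
      rw [← Finset.sum_sub_distrib]
      show ∑ j, E i j * c j = _
      refine Finset.sum_congr rfl fun j _ => ?_
      rw [D.leibniz, Pi.add_apply, Pi.smul_apply, Pi.smul_apply, smul_eq_mul, smul_eq_mul,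
        add_sub_cancel_right, mul_comm]
      rfl
    rw [h']
    exact sub_mem this (sum_mem fun j _ => K.mul_mem_right _ (hfK j))
  refine ⟨E, h1, h2, fun i j => ?_⟩
  have h3 := h2 ((fun i => E i j) - Pi.single j 1) (by
    rw [map_sub, h1, θ_apply, sub_eq_zero]
    simp [Pi.single_apply]) i
  rw [Matrix.mulVec_sub, Pi.sub_apply, Matrix.mulVec_single_one] at h3
  exact h3


variable (f) in
/-- The equations of the lift. -/
def eqn (E : Matrix (Fin m) (Fin m) S) (j : Fin m) : S := ∑ i, E i j * f i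

theorem eqn_idem (E : Matrix (Fin m) (Fin m) S) (hE : E * E = E) (j : Fin m) :
    ∑ i, E i j * eqn f E i = eqn f E j := by
  simp only [eqn, Finset.mul_sum]
  rw [Finset.sum_comm]
  refine Finset.sum_congr rfl fun l _ => ?_
  conv_rhs => rw [← hE]
  rw [Matrix.mul_apply, Finset.sum_mul]
  exact Finset.sum_congr rfl fun i _ => by ring

/-- The matrix computation. -/
theorem key_matrix {R : Type*} [CommRing R] (E D N : Matrix (Fin m) (Fin m) R) (hE : E * E = E)
    (hD : D * E = D) (hN : N * (E * D + (1 - E)) = 1) : N * (E * D) = E := by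
  have h : (E * D + (1 - E)) * E = E * D := by
    rw [add_mul, sub_mul, one_mul, hE, sub_self, add_zero, mul_assoc, hD]
  rw [← h, ← mul_assoc, hN, one_mul]

/-- The section on the square zero neighbourhood of the zero locus. -/
theorem exists_corrected {Q : Type u} [CommRing Q] [Algebra A Q] (q : S →ₐ[A] Q) (G : Ideal Q)
    (hG : ∀ a ∈ G, ∀ b ∈ G, a * b = 0) (g : Fin m → S) (E : Matrix (Fin m) (Fin m) S)
    (hE : E * E = E) (hgE : ∀ j, ∑ i, E i j * g i = g j) (hg : ∀ j, q (g j) ∈ G)
    (D : Derivation A S (Fin m → S)) (N : Matrix (Fin m) (Fin m) Q)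
    (hN : N * q.toRingHom.mapMatrix (E * Matrix.of (fun i j => D (g j) i) + (1 - E)) = 1) :
    ∃ s : S →ₐ[A] Q, (∀ x, q x - s x ∈ G) ∧ ∀ j, s (g j) = 0 := by
  let Dg : Matrix (Fin m) (Fin m) S := Matrix.of fun i j => D (g j) i
  let p : S →+* Q ⧸ G := (Ideal.Quotient.mk G).comp q.toRingHom
  have hpg : ∀ j, p (g j) = 0 := fun j => Ideal.Quotient.eq_zero_iff_mem.2 (hg j)
  have hDE : p.mapMatrix Dg * p.mapMatrix E = p.mapMatrix Dg := by
    rw [← map_mul]
    ext a l
    show p ((Dg * E) a l) = p (D (g l) a)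
    conv_rhs => rw [← hgE l]
    rw [map_sum, Finset.sum_apply, Matrix.mul_apply, map_sum, map_sum]
    refine Finset.sum_congr rfl fun b _ => ?_
    rw [D.leibniz, Pi.add_apply, Pi.smul_apply, Pi.smul_apply, smul_eq_mul, smul_eq_mul, map_add,
      map_mul p (g b), hpg, zero_mul, add_zero, mul_comm]
    rfl
  have hN' := congrArg (Ideal.Quotient.mk G).mapMatrix hN
  rw [map_mul, map_one] at hN'
  have hcomp : ∀ X : Matrix (Fin m) (Fin m) S,
      (Ideal.Quotient.mk G).mapMatrix (q.toRingHom.mapMatrix X) = p.mapMatrix X := fun X => rfl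
  rw [hcomp, map_add, map_mul, map_sub, map_one] at hN'
  have hkey := key_matrix (p.mapMatrix E) (p.mapMatrix Dg) ((Ideal.Quotient.mk G).mapMatrix N)
    (by rw [← map_mul, hE]) hDE hN'
  let c : Fin m → Q := fun i => ∑ l, q (g l) * (N * q.toRingHom.mapMatrix E) l i
  let δ : S → Q := fun x => ∑ i, c i * q (D x i)
  have hc : ∀ i, c i ∈ G := fun i => sum_mem fun l _ => G.mul_mem_right _ (hg l)
  have hmem : ∀ x, δ x ∈ G := fun x => sum_mem fun i _ => G.mul_mem_right _ (hc i)
  have hadd : ∀ x y, δ (x + y) = δ x + δ y := fun x y => by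
    simp only [δ, map_add, Pi.add_apply, mul_add, Finset.sum_add_distrib]
  have hmul : ∀ x y, δ (x * y) = q x * δ y + q y * δ x := fun x y => by
    simp only [δ, D.leibniz, Pi.add_apply, Pi.smul_apply, smul_eq_mul, map_add, map_mul,
      Finset.mul_sum, ← Finset.sum_add_distrib]
    exact Finset.sum_congr rfl fun i _ => by ring
  have h0 : ∀ a, δ (algebraMap A S a) = 0 := fun a => by simp [δ]
  have hgq : ∀ j, δ (g j) = q (g j) := by
    intro j
    have h1 : δ (g j) = ∑ l, q (g l) * (N * q.toRingHom.mapMatrix (E * Dg)) l j := by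
      show ∑ i, c i * q (D (g j) i) = _
      rw [map_mul, ← mul_assoc]
      simp only [c, Finset.sum_mul, Matrix.mul_apply (M := N * q.toRingHom.mapMatrix E),
        Finset.mul_sum]
      rw [Finset.sum_comm]
      refine Finset.sum_congr rfl fun l _ => Finset.sum_congr rfl fun i _ => ?_
      rw [mul_assoc]
      rfl
    have h2 : ∀ l, (N * q.toRingHom.mapMatrix (E * Dg)) l j - q (E l j) ∈ G := fun l => by
      rw [← Ideal.Quotient.eq]
      have h3 : (Ideal.Quotient.mk G).mapMatrix (N * q.toRingHom.mapMatrix (E * Dg)) =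
          p.mapMatrix E := by
        rw [map_mul, hcomp, map_mul]; exact hkey
      exact congrFun (congrFun h3 l) j
    rw [h1]
    conv_rhs => rw [← hgE j, map_sum]
    refine Finset.sum_congr rfl fun l _ => ?_
    rw [_root_.map_mul q (E l j) (g l), ← sub_eq_zero, mul_comm (q (E l j)), ← mul_sub]
    exact hG _ (hg l) _ (h2 l)
  let s : S →ₐ[A] Q :=
    { toFun := fun x => q x - δ x
      map_one' := by rw [map_one, ← map_one (algebraMap A S), h0, sub_zero]
      map_mul' := fun x y => by
        rw [map_mul, hmul]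
        linear_combination -(hG _ (hmem x) _ (hmem y))
      map_zero' := by rw [map_zero, ← map_zero (algebraMap A S), h0, sub_zero]
      map_add' := fun x y => by rw [map_add, hadd]; ring
      commutes' := fun a => by rw [AlgHom.commutes, h0, sub_zero] }
  refine ⟨s, fun x => ?_, fun j => ?_⟩
  · show q x - (q x - δ x) ∈ G
    rw [sub_sub_cancel]; exact hmem x
  · show q (g j) - δ (g j) = 0
    rw [hgq, sub_self]

/-- A quotient of a formally smooth algebra with a section on the first order neighbourhood. -/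
theorem formallySmooth_of_section {T : Type u} [CommRing T] [Algebra A T]
    [Algebra.FormallySmooth A T] (G : Ideal T) (s : T →ₐ[A] T ⧸ G ^ 2) (hker : ∀ x ∈ G, s x = 0)
    (hs : ∀ x, Ideal.Quotient.mk (G ^ 2) x - s x ∈ G.map (Ideal.Quotient.mk (G ^ 2))) :
    Algebra.FormallySmooth A (T ⧸ G) := by
  refine (Algebra.FormallySmooth.iff_split_surjection (Ideal.Quotient.mkₐ A G)
    Ideal.Quotient.mk_surjective).2 ?_
  have hk : RingHom.ker (Ideal.Quotient.mkₐ A G) = G := Ideal.mk_ker
  let e := Ideal.quotientEquivAlgOfEq A (congrArg (· ^ 2) hk.symm)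
  refine ⟨e.toAlgHom.comp (Ideal.Quotient.liftₐ G s hker), AlgHom.ext fun y => ?_⟩
  obtain ⟨y, rfl⟩ := Ideal.Quotient.mk_surjective y
  obtain ⟨z, hz⟩ := Ideal.Quotient.mk_surjective (s y)
  show (Ideal.Quotient.mkₐ A G).kerSquareLift (e (s y)) = Ideal.Quotient.mk G y
  rw [← hz, Ideal.quotientEquivAlgOfEq_mk]
  show Ideal.Quotient.mk G z = Ideal.Quotient.mk G y
  refine (Ideal.Quotient.eq.2 ?_).symm
  have h := hs y
  rw [← hz, ← map_sub, Ideal.mem_map_iff_of_surjective _ Ideal.Quotient.mk_surjective] at h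
  obtain ⟨w, hw, hwz⟩ := h
  have h2 := Ideal.pow_le_self two_ne_zero (Ideal.Quotient.eq.1 hwz)
  exact (sub_sub_cancel w (y - z)) ▸ sub_mem hw h2

/-- Formal smoothness of the localized zero scheme. -/
theorem formallySmooth_quotient [Algebra.FormallySmooth A S] {T : Type u} [CommRing T]
    [Algebra S T] [Algebra A T] [IsScalarTower A S T] (t : S) [IsLocalization.Away t T]
    (g : Fin m → S) (E : Matrix (Fin m) (Fin m) S) (hE : E * E = E)
    (hgE : ∀ j, ∑ i, E i j * g i = g j) (D : Derivation A S (Fin m → S))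
    (hdet : IsUnit (algebraMap S T (E * Matrix.of (fun i j => D (g j) i) + (1 - E)).det)) :
    Algebra.FormallySmooth A (T ⧸ Ideal.span (Set.range fun j => algebraMap S T (g j))) := by
  haveI : Algebra.FormallySmooth S T := Algebra.FormallySmooth.of_isLocalization (Submonoid.powers t)
  haveI : Algebra.FormallySmooth A T := Algebra.FormallySmooth.comp A S T
  generalize hGdef : Ideal.span (Set.range fun j => algebraMap S T (g j)) = G
  have hgG : ∀ j, algebraMap S T (g j) ∈ G := fun j => hGdef ▸ Ideal.subset_span ⟨j, rfl⟩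
  generalize hM : E * Matrix.of (fun i j => D (g j) i) + (1 - E) = M at hdet
  let q : S →ₐ[A] T ⧸ G ^ 2 :=
    (Ideal.Quotient.mkₐ A (G ^ 2)).comp (IsScalarTower.toAlgHom A S T)
  have hsq : ∀ a ∈ G.map (Ideal.Quotient.mk (G ^ 2)), ∀ b ∈ G.map (Ideal.Quotient.mk (G ^ 2)),
      a * b = 0 := fun a ha b hb => by
    have := Ideal.mul_mem_mul ha hb
    rwa [← Ideal.map_mul, ← pow_two, Ideal.map_quotient_self, Ideal.mem_bot] at this
  have hu : IsUnit (q.toRingHom.mapMatrix M).det := by
    rw [← RingHom.map_det]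
    exact hdet.map (Ideal.Quotient.mk (G ^ 2))
  obtain ⟨s₀, hs₀, hs₀g⟩ := exists_corrected q _ hsq g E hE hgE
    (fun j => Ideal.mem_map_of_mem _ (hgG j)) D (q.toRingHom.mapMatrix M)⁻¹
    (by rw [hM]; exact Matrix.nonsing_inv_mul _ hu)
  have ht : IsUnit (s₀ t) := by
    have htu : IsUnit (q t) := (IsLocalization.Away.algebraMap_isUnit (S := T) t).map
      (Ideal.Quotient.mk (G ^ 2))
    rw [show s₀ t = q t + -(q t - s₀ t) by ring]
    refine IsNilpotent.isUnit_add_left_of_commute (IsNilpotent.neg ⟨2, ?_⟩) htu (Commute.all _ _)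
    exact (pow_two _).trans (hsq _ (hs₀ t) _ (hs₀ t))
  let s₁ : T →ₐ[A] T ⧸ G ^ 2 := IsLocalization.liftAlgHom (M := Submonoid.powers t) (f := s₀) (by
    rintro ⟨_, n, rfl⟩; rw [map_pow]; exact ht.pow n)
  have hs₁ : ∀ x, s₁ (algebraMap S T x) = s₀ x := fun x => IsLocalization.lift_eq _ x
  refine formallySmooth_of_section G s₁ ?_ ?_
  · intro x hx
    rw [← hGdef] at hx
    have hle : Ideal.span (Set.range fun j => algebraMap S T (g j)) ≤ RingHom.ker s₁.toRingHom :=
      Ideal.span_le.2 (by rintro _ ⟨j, rfl⟩; exact (hs₁ _).trans (hs₀g j))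
    exact hle hx
  · have hcomp : (Ideal.Quotient.mkₐ A (G.map (Ideal.Quotient.mk (G ^ 2)))).comp
        (Ideal.Quotient.mkₐ A (G ^ 2)) =
        (Ideal.Quotient.mkₐ A (G.map (Ideal.Quotient.mk (G ^ 2)))).comp s₁ := by
      refine IsLocalization.algHom_ext (Submonoid.powers t) (AlgHom.ext fun x => ?_)
      refine Ideal.Quotient.eq.2 ?_
      show q x - s₁ (algebraMap S T x) ∈ _
      rw [hs₁]; exact hs₀ x
    exact fun x => Ideal.Quotient.eq.1 (AlgHom.congr_fun hcomp x)

/-- Nakayama for the generators. -/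
theorem exists_killing (hK : K = Ideal.span (Set.range f) ⊔ I.map (algebraMap A S)) (g : Fin m → S)
    (hgf : ∀ j, g j - f j ∈ nb I K) :
    ∃ r : S, r - 1 ∈ K ∧ ∀ j, r * f j ∈ Ideal.span (Set.range g) ⊔ I.map (algebraMap A S) := by
  generalize hJ : Ideal.span (Set.range g) ⊔ I.map (algebraMap A S) = J
  have hgJ : ∀ j, g j ∈ J := fun j => hJ ▸ Ideal.mem_sup_left (Ideal.subset_span ⟨j, rfl⟩)
  have hIJ : I.map (algebraMap A S) ≤ J := hJ ▸ le_sup_right
  have hle : ∀ j, f j ∈ K * Ideal.span (Set.range f) ⊔ J := by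
    intro j
    have h : g j - f j ∈ K * Ideal.span (Set.range f) ⊔ J := by
      refine (sup_le ?_ (le_sup_of_le_right hIJ) : nb I K ≤ _) (hgf j)
      rw [pow_two]
      conv_lhs => arg 2; rw [hK]
      rw [Ideal.mul_sup]
      exact sup_le le_sup_left (le_sup_of_le_right (Ideal.mul_le_right.trans hIJ))
    rw [show f j = g j - (g j - f j) by ring]
    exact sub_mem (Ideal.mem_sup_right (hgJ j)) h
  obtain ⟨r, hr1, hr⟩ := Submodule.exists_sub_one_mem_and_smul_eq_zero_of_fg_of_le_smul K
    (Submodule.map (Submodule.mkQ J) (Ideal.span (Set.range f)))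
    (Submodule.FG.map _ (Submodule.fg_span (Set.finite_range f))) (by
      rw [← Submodule.map_smul'', Submodule.map_le_iff_le_comap, Ideal.span, Submodule.span_le]
      rintro _ ⟨j, rfl⟩
      show Submodule.mkQ J (f j) ∈ Submodule.map (Submodule.mkQ J) (K • Ideal.span (Set.range f))
      obtain ⟨a, ha, b, hb, hab⟩ := Submodule.mem_sup.1 (hle j)
      refine ⟨a, ha, ?_⟩
      rw [← hab, map_add, show Submodule.mkQ J b = 0 from (Submodule.Quotient.mk_eq_zero _).2 hb,
        add_zero])
  refine ⟨r, hr1, fun j => ?_⟩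
  have := hr _ (Submodule.mem_map_of_mem (Ideal.subset_span ⟨j, rfl⟩))
  rw [← map_smul, Submodule.mkQ_apply, Submodule.Quotient.mk_eq_zero, smul_eq_mul] at this
  exact this

/-- The determinant is invertible along `V(K)`. -/
theorem det_sub_one_mem [Algebra.FormallySmooth A S]
    (hK : K = Ideal.span (Set.range f) ⊔ I.map (algebraMap A S))
    (σ : S →ₐ[A] S ⧸ nb I K) (hσK : ∀ x ∈ K, σ x = 0)
    (E : Matrix (Fin m) (Fin m) S) (hE : E * E = E)
    (h2 : ∀ c, θ I K f c = 0 → ∀ i, (E *ᵥ c) i ∈ K)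
    (D : Derivation A S (Fin m → S))
    (hD : ∀ x, θ I K f (D x) = Ideal.Quotient.mk (nb I K) x - σ x) :
    (E * Matrix.of (fun i j => D (eqn f E j) i) + (1 - E)).det - 1 ∈ K := by
  have hfK : ∀ j, f j ∈ K := fun j => hK ▸ Ideal.mem_sup_left (Ideal.subset_span ⟨j, rfl⟩)
  let Df : Matrix (Fin m) (Fin m) S := Matrix.of fun i j => D (f j) i
  let Dg : Matrix (Fin m) (Fin m) S := Matrix.of fun i j => D (eqn f E j) i
  let π := (Ideal.Quotient.mk K).mapMatrix (m := Fin m)
  have hEDf : π E * π Df = π E := by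
    rw [← map_mul]
    ext i j
    show Ideal.Quotient.mk K ((E * Df) i j) = Ideal.Quotient.mk K (E i j)
    rw [Ideal.Quotient.eq]
    have h3 := h2 ((fun i => Df i j) - Pi.single j 1) (by
      rw [map_sub, sub_eq_zero]
      show θ I K f (D (f j)) = _
      rw [hD, hσK _ (hfK j), sub_zero, θ_apply]
      simp [Pi.single_apply]) i
    rw [Matrix.mulVec_sub, Pi.sub_apply, Matrix.mulVec_single_one] at h3
    exact h3
  have hDg : π Dg = π Df * π E := by
    rw [← map_mul]
    ext i j
    show Ideal.Quotient.mk K (D (∑ l, E l j * f l) i) = Ideal.Quotient.mk K ((Df * E) i j)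
    rw [map_sum, Finset.sum_apply, Matrix.mul_apply, map_sum, map_sum]
    refine Finset.sum_congr rfl fun l _ => ?_
    rw [D.leibniz, Pi.add_apply, Pi.smul_apply, Pi.smul_apply, smul_eq_mul, smul_eq_mul, map_add,
      map_mul (Ideal.Quotient.mk K) (f l), Ideal.Quotient.eq_zero_iff_mem.2 (hfK l), zero_mul,
      add_zero, mul_comm]
    rfl
  have hM : π (E * Dg + (1 - E)) = 1 := by
    rw [map_add, map_mul, map_sub, map_one, hDg, ← mul_assoc, hEDf, ← map_mul, hE, add_sub_cancel]
  rw [← Ideal.Quotient.eq, map_one, RingHom.map_det]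
  show (π (E * Dg + (1 - E))).det = 1
  rw [hM, Matrix.det_one]

/-- The ideal of the closed subscheme after localizing. -/
theorem map_eq_sup {T : Type u} [CommRing T] [Algebra S T] [Algebra A T] [IsScalarTower A S T]
    (t : S) (htu : IsUnit (algebraMap S T t))
    (hK : K = Ideal.span (Set.range f) ⊔ I.map (algebraMap A S)) (g : Fin m → S) (hgK : ∀ j, g j ∈ K)
    (htf : ∀ j, t * f j ∈ Ideal.span (Set.range g) ⊔ I.map (algebraMap A S)) :
    K.map (algebraMap S T) =
      Ideal.span (Set.range fun j => algebraMap S T (g j)) ⊔ I.map (algebraMap A T) := by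
  have hI : I.map (algebraMap A T) = (I.map (algebraMap A S)).map (algebraMap S T) := by
    rw [Ideal.map_map, ← IsScalarTower.algebraMap_eq]
  have hG : Ideal.span (Set.range fun j => algebraMap S T (g j)) =
      (Ideal.span (Set.range g)).map (algebraMap S T) := by
    rw [Ideal.map_span, ← Set.range_comp]; rfl
  rw [hI, hG, ← Ideal.map_sup]
  refine le_antisymm ?_ (Ideal.map_mono (sup_le (Ideal.span_le.2 ?_) (hK ▸ le_sup_right)))
  · rw [Ideal.map_le_iff_le_comap, hK]
    refine sup_le (Ideal.span_le.2 ?_) ?_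
    · rintro _ ⟨j, rfl⟩
      have h := Ideal.mem_map_of_mem (algebraMap S T) (htf j)
      rw [map_mul, Ideal.unit_mul_mem_iff_mem _ htu] at h
      exact h
    · exact le_sup_right.trans Ideal.le_comap_map
  · rintro _ ⟨j, rfl⟩; exact hgK j

/-- The smooth lift cut out by an idempotent matrix, near `V(K)`. -/
theorem exists_formallySmooth [Algebra.FormallySmooth A S]
    (hK : K = Ideal.span (Set.range f) ⊔ I.map (algebraMap A S))
    (σ : S →ₐ[A] S ⧸ nb I K) (hσK : ∀ x ∈ K, σ x = 0)
    (hσ : ∀ x, Ideal.Quotient.mk (nb I K) x - σ x ∈ K.map (Ideal.Quotient.mk (nb I K)))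
    (E : Matrix (Fin m) (Fin m) S) (hE : E * E = E)
    (h1 : ∀ j, θ I K f (fun i => E i j) = Ideal.Quotient.mk (nb I K) (f j))
    (h2 : ∀ c, θ I K f c = 0 → ∀ i, (E *ᵥ c) i ∈ K) :
    ∃ (t : S) (G : Ideal (Localization.Away t)), t - 1 ∈ K ∧ G.FG ∧
      K.map (algebraMap S (Localization.Away t)) = G ⊔ I.map (algebraMap A (Localization.Away t)) ∧
      Algebra.FormallySmooth A (Localization.Away t ⧸ G) := by
  obtain ⟨D, hD⟩ := exists_derivation f hK σ hσ
  have hdet := det_sub_one_mem hK σ hσK E hE h2 D hD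
  have hgf : ∀ j, eqn f E j - f j ∈ nb I K := fun j => by
    have h := h1 j
    rw [θ_apply, Ideal.Quotient.eq] at h
    exact h
  have hgK : ∀ j, eqn f E j ∈ K := fun j => sum_mem fun i _ =>
    K.mul_mem_left _ (hK ▸ Ideal.mem_sup_left (Ideal.subset_span ⟨i, rfl⟩))
  obtain ⟨r, hr1, hrf⟩ := exists_killing hK (eqn f E) hgf
  generalize hd : (E * Matrix.of (fun i j => D (eqn f E j) i) + (1 - E)).det = d at hdet
  refine ⟨r * d, Ideal.span (Set.range fun j => algebraMap S _ (eqn f E j)), ?_,
    Submodule.fg_span (Set.finite_range _), ?_, ?_⟩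
  · rw [show r * d - 1 = (r - 1) * d + (d - 1) by ring]
    exact add_mem (K.mul_mem_right _ hr1) hdet
  · refine map_eq_sup (r * d) (IsLocalization.Away.algebraMap_isUnit _) hK _ hgK fun j => ?_
    rw [show r * d * f j = d * (r * f j) by ring]
    exact Ideal.mul_mem_left _ _ (hrf j)
  · refine formallySmooth_quotient (r * d) (eqn f E) E hE (eqn_idem E hE) D ?_
    rw [hd]
    have h := IsLocalization.Away.algebraMap_isUnit (S := Localization.Away (r * d)) (r * d)
    rw [map_mul] at h
    exact isUnit_of_mul_isUnit_right h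

end

end Groth.Agent.SmLift
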