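import Mathlib
import Groth.Agent.SmLift.Core
import Groth.Agent.PairHens.Fp
import Groth.Agent.Hensel.Smooth

/-!
Smooth algebras lift along surjective ring maps.
-/

universe u

namespace Groth.Agent.SmLift

noncomputable section

open Matrix

variable {A : Type u} [CommRing A] {I : Ideal A} {C : Type u} [CommRing C] [Algebra (A ⧸ I) C]
  [Algebra A C] [IsScalarTower A (A ⧸ I) C]

theorem exists_section [Algebra.FormallySmooth (A ⧸ I) C] {S : Type u} [CommRing S] [Algebra A S]
    (π : S →ₐ[A] C) (hπ : Function.Surjective π) (K : Ideal S) (hK : RingHom.ker π.toRingHom = K) :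
    ∃ σ : S →ₐ[A] S ⧸ nb I K, (∀ x ∈ K, σ x = 0) ∧
      ∀ x, Ideal.Quotient.mk (nb I K) x - σ x ∈ K.map (Ideal.Quotient.mk (nb I K)) := by
  let T := S ⧸ nb I K
  letI : Algebra (A ⧸ I) T :=
    (Ideal.quotientMap (nb I K) (algebraMap A S)
      (Ideal.map_le_iff_le_comap.1 le_sup_right)).toAlgebra
  haveI : IsScalarTower A (A ⧸ I) T :=
    IsScalarTower.of_algebraMap_eq (R := A) (S := A ⧸ I) (A := T) fun _ => rfl
  have hIK : I.map (algebraMap A S) ≤ K := by
    rw [Ideal.map_le_iff_le_comap]
    intro a ha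
    rw [Ideal.mem_comap, ← hK, RingHom.mem_ker]
    show π (algebraMap A S a) = 0
    rw [π.commutes, IsScalarTower.algebraMap_apply A (A ⧸ I) C, Ideal.Quotient.algebraMap_eq,
      Ideal.Quotient.eq_zero_iff_mem.2 ha, map_zero]
  have hle : nb I K ≤ RingHom.ker π.toRingHom := by
    rw [hK]; exact sup_le (Ideal.pow_le_self two_ne_zero) hIK
  let g₀ : T →ₐ[A] C := Ideal.Quotient.liftₐ _ π fun a ha => hle ha
  let g : T →ₐ[A ⧸ I] C :=
    { toRingHom := g₀.toRingHom
      commutes' := fun a => by
        obtain ⟨a, rfl⟩ := Ideal.Quotient.mk_surjective a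
        show π (algebraMap A S a) = _
        rw [π.commutes, IsScalarTower.algebraMap_apply A (A ⧸ I) C]
        rfl }
  have hg : ∀ x, g (Ideal.Quotient.mk _ x) = π x := fun x => rfl
  have hgker : RingHom.ker (g : T →+* C) = K.map (Ideal.Quotient.mk (nb I K)) := by
    refine le_antisymm (fun z hz => ?_) (Ideal.map_le_iff_le_comap.2 fun x hx => ?_)
    · obtain ⟨x, rfl⟩ := Ideal.Quotient.mk_surjective z
      refine Ideal.mem_map_of_mem _ ?_
      rw [← hK]; exact hz
    · rw [← hK] at hx; exact hx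
  have hnil : IsNilpotent (RingHom.ker (g : T →+* C)) := ⟨2, by
    rw [hgker, ← Ideal.map_pow, (Ideal.map_eq_bot_iff_le_ker _).2 (le_sup_left.trans Ideal.mk_ker.ge)]
    rfl⟩
  have hgsurj : Function.Surjective g := fun c => by
    obtain ⟨x, rfl⟩ := hπ c
    exact ⟨Ideal.Quotient.mk _ x, rfl⟩
  let τ : C →ₐ[A ⧸ I] T := Algebra.FormallySmooth.liftOfSurjective (AlgHom.id (A ⧸ I) C) g hgsurj hnil
  have hτ : ∀ c, g (τ c) = c := Algebra.FormallySmooth.liftOfSurjective_apply _ g hgsurj hnil
  refine ⟨(τ.restrictScalars A).comp π, fun x hx => ?_, fun x => ?_⟩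
  · show τ (π x) = 0
    rw [← hK] at hx
    rw [show π x = 0 from hx, map_zero]
  · show _ - τ (π x) ∈ _
    rw [← hgker, RingHom.mem_ker]
    show g (_ - _) = 0
    rw [map_sub, hτ, hg, sub_self]

/-- A smooth algebra over `A/I` lifts to a smooth algebra over `A`. -/
theorem exists_smooth_lift [Algebra.Smooth (A ⧸ I) C] :
    ∃ (R : Type u) (_ : CommRing R) (_ : Algebra A R), Algebra.Smooth A R ∧
      ∃ π : R →ₐ[A] C, Function.Surjective π ∧
        RingHom.ker π.toRingHom = I.map (algebraMap A R) := by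
  classical
  obtain ⟨n, π₀, hπ₀, ⟨s, hs⟩⟩ := (inferInstance : Algebra.FinitePresentation (A ⧸ I) C).out
  let P := MvPolynomial (Fin n) A
  let red : P →+* MvPolynomial (Fin n) (A ⧸ I) := MvPolynomial.map (Ideal.Quotient.mk I)
  have hred : Function.Surjective red := MvPolynomial.map_surjective _ Ideal.Quotient.mk_surjective
  choose lft hlft using fun p => hred p
  let m := s.card
  let f : Fin m → P := fun j => lft (s.equivFin.symm j).1
  let π : P →ₐ[A] C :=
    { toRingHom := π₀.toRingHom.comp red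
      commutes' := fun a => by
        show π₀ (red (MvPolynomial.C a)) = _
        rw [MvPolynomial.map_C, ← MvPolynomial.algebraMap_eq, π₀.commutes]
        exact (IsScalarTower.algebraMap_apply A (A ⧸ I) C a).symm }
  have hπ : Function.Surjective π := hπ₀.comp hred
  let K : Ideal P := RingHom.ker π.toRingHom
  have hKeq : K = Ideal.span (Set.range f) ⊔ I.map (algebraMap A P) := by
    have h1 : Ideal.span (Set.range fun j => (s.equivFin.symm j).1) =
        RingHom.ker π₀.toRingHom := by
      rw [show (Set.range fun j => (s.equivFin.symm j).1) = (s : Set _) from ?_]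
      · exact hs
      rw [Set.range_comp' (g := Subtype.val), Equiv.range_eq_univ, Set.image_univ, Subtype.range_coe]
    have h2 : (Ideal.span (Set.range f)).map red = RingHom.ker π₀.toRingHom := by
      rw [Ideal.map_span, ← Set.range_comp, ← h1]
      congr 2
      exact funext fun j => hlft _
    show RingHom.ker (π₀.toRingHom.comp red) = _
    rw [← RingHom.comap_ker, ← h2, Ideal.comap_map_of_surjective' _ hred, MvPolynomial.ker_map, Ideal.mk_ker]
    rfl
  obtain ⟨σ, hσK, hσ⟩ := exists_section (I := I) π hπ K rfl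
  obtain ⟨E₀, hE₀₁, hE₀₂, hE₀⟩ := exists_matrix hKeq σ hσK hσ
  -- idempotent lift over the henselization
  let H := PairHens.Hz P K
  have hH : Hens2.IsPairHenselization P K H := PairHens.isPairHenselization P K
  haveI := hH.1
  obtain ⟨EH, hEH, hEH₀⟩ := Hensel.exists_idempotent_matrix (I := K.map (algebraMap P H))
    (E₀.map (algebraMap P H)) (by
      ext i j
      rw [Matrix.map_apply, Matrix.zero_apply, Ideal.Quotient.eq_zero_iff_mem, ← Matrix.map_mul,
        Matrix.sub_apply, Matrix.map_apply, Matrix.map_apply, ← map_sub, ← Matrix.sub_apply]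
      exact Ideal.mem_map_of_mem _ (hE₀ i j))
  obtain ⟨S₁, _, _, _, hbij₁, φ, hφ⟩ := PairHens.exists_nbhd_finset hH
    (Finset.univ.image fun p : Fin m × Fin m => EH p.1 p.2)
  choose E₁ hE₁ using fun i j => hφ (Finset.mem_image_of_mem (fun p : Fin m × Fin m => EH p.1 p.2)
    (Finset.mem_univ (i, j)))
  let M₁ : Matrix (Fin m) (Fin m) S₁ := Matrix.of E₁
  have hM₁ : M₁.map φ = EH := Matrix.ext hE₁
  have hzero : ∀ p : Fin m × Fin m, φ ((M₁ * M₁ - M₁) p.1 p.2) = 0 := fun p => by
    have h0 : φ.toRingHom.mapMatrix (M₁ * M₁ - M₁) = 0 := by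
      rw [map_sub, map_mul]
      show M₁.map φ * M₁.map φ - M₁.map φ = 0
      rw [hM₁, hEH, sub_self]
    exact congrFun (congrFun h0 p.1) p.2
  choose u hu huz using fun p => PairHens.exists_killed φ _ (hzero p)
  obtain ⟨v, hv, hdvd, hbij⟩ := PairHens.exists_away ((PairHens.εH P K).comp φ) (∏ p, u p)
    (by rw [map_prod]; exact IsUnit.prod_iff.2 fun p _ => hu p)
  let S := Localization.Away v
  haveI : Algebra.Etale P S :=
    haveI := Algebra.Etale.of_isLocalizationAway (R := S₁) (A := S) v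
    Algebra.Etale.comp P S₁ S
  letI : Algebra A S := ((algebraMap P S).comp (algebraMap A P)).toAlgebra
  haveI : IsScalarTower A P S := .of_algebraMap_eq fun _ => rfl
  haveI : Algebra.FormallySmooth A S := Algebra.FormallySmooth.comp A P S
  haveI : Algebra.FinitePresentation A S := Algebra.FinitePresentation.trans A P S
  have hφv : IsUnit (φ v) := (PairHens.isUnit_iff (φ v)).2 hv
  let φ' : S →ₐ[P] H := IsLocalization.liftAlgHom (M := Submonoid.powers v) (f := φ) (by
    rintro ⟨_, k, rfl⟩; rw [map_pow]; exact hφv.pow k)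
  let ιS : S₁ →+* S := algebraMap S₁ S
  have hφ' : ∀ x, φ' (ιS x) = φ x := fun x => IsLocalization.lift_eq _ x
  let E : Matrix (Fin m) (Fin m) S := M₁.map ιS
  have hE : E * E = E := by
    ext i j
    rw [← sub_eq_zero, ← Matrix.map_mul]
    show ιS ((M₁ * M₁) i j) - ιS (M₁ i j) = 0
    rw [← map_sub, ← Matrix.sub_apply]
    obtain ⟨c, hc⟩ := (Finset.dvd_prod_of_mem u (Finset.mem_univ (i, j))).trans hdvd
    have hu' : IsUnit (ιS v) := IsLocalization.map_units S (⟨v, 1, pow_one v⟩ : Submonoid.powers v)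
    refine hu'.mul_right_eq_zero.1 ?_
    rw [← map_mul, show v * (M₁ * M₁ - M₁) i j = 0 by
      linear_combination ((M₁ * M₁ - M₁) i j) * hc + c * huz (i, j), map_zero]
  let K' : Ideal S := K.map (algebraMap P S)
  let fS : Fin m → S := fun j => algebraMap P S (f j)
  have hK' : K' = Ideal.span (Set.range fS) ⊔ I.map (algebraMap A S) := by
    show K.map (algebraMap P S) = _
    rw [hKeq, Ideal.map_sup, Ideal.map_span, ← Set.range_comp, Ideal.map_map]
    rfl
  have hnb : (nb I K).map (algebraMap P S) = nb I K' := by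
    show (K ^ 2 ⊔ I.map (algebraMap A P)).map (algebraMap P S) = _
    rw [Ideal.map_sup, Ideal.map_pow, Ideal.map_map]
    rfl
  have hmapφ : ∀ X : Ideal P, (X.map (algebraMap P S)).map φ' = X.map (algebraMap P H) := fun X => by
    rw [← Ideal.map_coe φ', Ideal.map_map]
    exact congrArg (fun r => X.map r) φ'.comp_algebraMap
  have hnbP : ∀ x, algebraMap P S x ∈ nb I K' → x ∈ nb I K := fun x hx => by
    rw [← hnb] at hx
    have h := Ideal.mem_map_of_mem φ' hx
    rw [φ'.commutes, hmapφ] at h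
    exact (PairHens.comap_map_eq hH (nb I K) 2 le_sup_left).le h
  have hres : ∀ x : S, ∃ p : P, x - algebraMap P S p ∈ K' := PairHens.exists_sub_mem_of_bijective hbij
  have hEE₀ : ∀ i j, E i j - algebraMap P S (E₀ i j) ∈ K' := fun i j => by
    obtain ⟨p, hp⟩ := hres (E i j - algebraMap P S (E₀ i j))
    have h := Ideal.mem_map_of_mem φ' hp
    rw [hmapφ, map_sub, map_sub, φ'.commutes, φ'.commutes] at h
    have hE' : φ' (E i j) - algebraMap P H (E₀ i j) ∈ K.map (algebraMap P H) := by
      rw [show φ' (E i j) = φ (M₁ i j) from hφ' _, show φ (M₁ i j) = EH i j from hE₁ i j]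
      exact Ideal.Quotient.eq.1 (congrFun (congrFun hEH₀ i) j)
    have hp' : p ∈ K := by
      rw [← PairHens.comap_map_eq hH K 1 (pow_one K).le]
      have := sub_mem hE' h
      rwa [sub_sub_cancel] at this
    have := add_mem hp (Ideal.mem_map_of_mem (algebraMap P S) hp')
    rwa [sub_add_cancel] at this
  have hsumK : ∀ c d : Fin m → S, (∀ l, c l - d l ∈ K') →
      ∑ l, c l * fS l - ∑ l, d l * fS l ∈ nb I K' := fun c d hcd => by
    rw [← Finset.sum_sub_distrib]
    refine Ideal.mem_sup_left (sum_mem fun l _ => ?_)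
    rw [← sub_mul, pow_two]
    exact Ideal.mul_mem_mul (hcd l) (hK' ▸ Ideal.mem_sup_left (Ideal.subset_span ⟨l, rfl⟩))
  have h1 : ∀ j, θ I K' fS (fun i => E i j) = Ideal.Quotient.mk (nb I K') (fS j) := fun j => by
    rw [θ_apply, Ideal.Quotient.eq]
    have h := hE₀₁ j
    rw [θ_apply, Ideal.Quotient.eq] at h
    have h' := Ideal.mem_map_of_mem (algebraMap P S) h
    rw [hnb, map_sub, map_sum] at h'
    simp only [map_mul] at h'
    have := add_mem (hsumK (fun i => E i j) (fun i => algebraMap P S (E₀ i j)) fun i => hEE₀ i j) h'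
    rwa [sub_add_sub_cancel] at this
  have h2 : ∀ c, θ I K' fS c = 0 → ∀ i, (E *ᵥ c) i ∈ K' := by
    intro c hc i
    choose c₀ hc₀ using fun l => hres (c l)
    rw [θ_apply, Ideal.Quotient.eq_zero_iff_mem] at hc
    have h := sub_mem hc (hsumK c (fun l => algebraMap P S (c₀ l)) hc₀)
    rw [sub_sub_cancel] at h
    have hθ : θ I K f c₀ = 0 := by
      rw [θ_apply, Ideal.Quotient.eq_zero_iff_mem]
      refine hnbP _ ?_
      simpa [map_sum, fS] using h
    have h3 : algebraMap P S ((E₀ *ᵥ c₀) i) ∈ K' := Ideal.mem_map_of_mem _ (hE₀₂ c₀ hθ i)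
    have h4 : (E *ᵥ c) i - algebraMap P S ((E₀ *ᵥ c₀) i) ∈ K' := by
      simp only [Matrix.mulVec, dotProduct, map_sum, map_mul]
      rw [← Finset.sum_sub_distrib]
      refine sum_mem fun l _ => ?_
      rw [show E i l * c l - algebraMap P S (E₀ i l) * algebraMap P S (c₀ l) =
        (E i l - algebraMap P S (E₀ i l)) * c l + algebraMap P S (E₀ i l) * (c l - algebraMap P S (c₀ l))
        by ring]
      exact add_mem (K'.mul_mem_right _ (hEE₀ i l)) (K'.mul_mem_left _ (hc₀ l))
    simpa using add_mem h4 h3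
  -- the point of `S`
  obtain ⟨σp, hσp⟩ := PairHens.exists_pointOfBijective hbij
  let toC : P ⧸ K →ₐ[A] C := Ideal.Quotient.liftₐ K π fun _ h => h
  let π' : S →ₐ[A] C := toC.comp (σp.restrictScalars A)
  have hπ'P : ∀ p, π' (algebraMap P S p) = π p := fun p => by
    show toC (σp (algebraMap P S p)) = π p
    rw [σp.commutes]
    rfl
  have hπ' : Function.Surjective π' := fun c => by
    obtain ⟨p, rfl⟩ := hπ c
    exact ⟨_, hπ'P p⟩
  have hkerπ' : RingHom.ker π'.toRingHom = K' := by
    refine le_antisymm (fun x hx => ?_) (Ideal.map_le_iff_le_comap.2 fun p hp => ?_)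
    · refine hσp x ?_
      obtain ⟨p, hp⟩ := Ideal.Quotient.mk_surjective (σp x)
      have h0 : toC (σp x) = 0 := hx
      rw [← hp] at h0 ⊢
      exact Ideal.Quotient.eq_zero_iff_mem.2 h0
    · show π' (algebraMap P S p) = 0
      rw [hπ'P]; exact hp
  obtain ⟨σ', hσ'K, hσ'⟩ := exists_section (I := I) π' hπ' K' hkerπ'
  obtain ⟨t, G, ht, hG, hKG, hsm⟩ := exists_formallySmooth hK' σ' hσ'K hσ' E hE h1 h2
  let T := Localization.Away t
  have hπt : π' t = 1 := by
    rw [← sub_eq_zero, ← map_one π', ← map_sub]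
    rw [← hkerπ'] at ht
    exact ht
  let πT : T →ₐ[A] C := IsLocalization.liftAlgHom (M := Submonoid.powers t) (f := π') (by
    rintro ⟨_, k, rfl⟩; rw [map_pow, hπt, one_pow]; exact isUnit_one)
  have hπT : ∀ x, πT (algebraMap S T x) = π' x := fun x => IsLocalization.lift_eq _ x
  have hkerT : RingHom.ker πT.toRingHom = K'.map (algebraMap S T) := by
    refine le_antisymm (fun z hz => ?_) (Ideal.map_le_iff_le_comap.2 fun x hx => ?_)
    · obtain ⟨a, ⟨w, hw⟩, rfl⟩ := IsLocalization.exists_mk'_eq (Submonoid.powers t) z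
      refine (IsLocalization.mk'_mem_map_algebraMap_iff (Submonoid.powers t) T K' a ⟨w, hw⟩).2
        ⟨1, one_mem _, ?_⟩
      rw [one_mul, ← hkerπ']
      have h0 := congrArg (· * πT (algebraMap S T w)) (show πT (IsLocalization.mk' T a ⟨w, hw⟩) = 0 from hz)
      simp only [zero_mul, ← map_mul] at h0
      rw [IsLocalization.mk'_spec, hπT] at h0
      exact h0
    · show πT (algebraMap S T x) = 0
      rw [hπT]; rw [← hkerπ'] at hx; exact hx
  have hGker : G ≤ RingHom.ker πT.toRingHom := by
    rw [hkerT, hKG]; exact le_sup_left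
  let πR : T ⧸ G →ₐ[A] C := Ideal.Quotient.liftₐ G πT fun a ha => hGker ha
  haveI : Algebra.FinitePresentation S T := IsLocalization.Away.finitePresentation t
  haveI : Algebra.FinitePresentation A T := Algebra.FinitePresentation.trans A S T
  refine ⟨T ⧸ G, inferInstance, inferInstance,
    { formallySmooth := hsm, finitePresentation := Algebra.FinitePresentation.quotient hG },
    πR, fun c => ?_, ?_⟩
  · obtain ⟨x, rfl⟩ := hπ' c
    exact ⟨Ideal.Quotient.mk G (algebraMap S T x), hπT x⟩
  · refine le_antisymm (fun z hz => ?_) (Ideal.map_le_iff_le_comap.2 fun a ha => ?_)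
    · obtain ⟨z, rfl⟩ := Ideal.Quotient.mk_surjective z
      have hz' : z ∈ G ⊔ I.map (algebraMap A T) := by rw [← hKG, ← hkerT]; exact hz
      have := Ideal.mem_map_of_mem (Ideal.Quotient.mk G) hz'
      rwa [Ideal.map_sup, Ideal.map_quotient_self, bot_sup_eq, Ideal.map_map] at this
    · show πR (algebraMap A (T ⧸ G) a) = 0
      rw [AlgHom.commutes, IsScalarTower.algebraMap_apply A (A ⧸ I) C, Ideal.Quotient.algebraMap_eq,
        Ideal.Quotient.eq_zero_iff_mem.2 ha, map_zero]

end

end Groth.Agent.SmLift
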